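import Groth.Agent.AlgSpD.DecentDim
import Groth.Agent.AlgSpD.DecentCrit
import Groth.Agent.AlgSp.SchImageRep
import Groth.Agent.EtNormal.Basic
import Groth.Agent.IdealSh.GenericPts
import Groth.Agent.S9821

/-!
# Charts of integral algebraic spaces

* `isNormalScheme_chart`: every etale chart of a normal space is a normal scheme.
* `finite_irreducibleComponents_chart`: affine charts of a decent irreducible space have finitely many components.
* `exists_integral_affine_chart`: a normal integral space has integral affine normal charts through every point.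
-/

set_option autoImplicit false
set_option backward.isDefEq.respectTransparency false

universe u

open CategoryTheory CategoryTheory.Limits AlgebraicGeometry Topology TopologicalSpace

namespace Groth.Agent.AlgSpCov.IntegralSp

open Groth.Agent
open _root_.AlgSp

variable {S : Scheme.{u}} (X : AlgSp.Space S)

theorem isNormalScheme_chart (hn : AlgSp.EtaleLocally (fun U => ∀ u : ↥U, IsDomain ↥(U.presheaf.stalk u) ∧
      IsIntegrallyClosed ↥(U.presheaf.stalk u)) X.obj)
    {T : Over S} (a : (AlgSp.yon S).obj T ⟶ X.obj) (ha : AlgSp.RepWith @Etale a) : Pi1.IsNormalScheme T.left := by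
  obtain ⟨V, q, hq, hqs, hV⟩ := hn
  obtain ⟨R, s, t, sq⟩ := AlgSpB.exists_pullback_yon hq.1 a
  have : Etale s.left := ha.2 _ _ _ sq.flip
  have : Etale t.left := hq.2 _ _ _ sq
  have : Surjective t.left := hqs.2 _ _ _ sq
  intro x
  obtain ⟨r, rfl⟩ := t.left.surjective x
  exact (EtNormal.normal_stalk_iff t.left r).1 ((EtNormal.normal_stalk_iff s.left r).2 (hV (s.left r)))

/-- The generic point. -/
theorem exists_generic (hX : AlgSp.IsIntegralSp X.obj) : ∃ η : AlgSp.Points X.obj, ∀ x, η ⤳ x := by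
  have := S10339.result X hX.2.1
  have := hX.2.2
  obtain ⟨η, hη⟩ := QuasiSober.sober (IrreducibleSpace.isIrreducible_univ (AlgSp.Points X.obj)) isClosed_univ
  exact ⟨η, fun x => hη.specializes trivial⟩

/-- An affine chart of an integral space has finitely many maximal points. -/
theorem finite_maximal (hX : AlgSp.IsIntegralSp X.obj) {U : Over S} [IsAffine U.left]
    (a : (AlgSp.yon S).obj U ⟶ X.obj) (ha : AlgSp.RepWith @Etale a) :
    {ξ : ↥U.left | ∀ z, z ⤳ ξ → z = ξ}.Finite := by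
  obtain ⟨η, hη⟩ := exists_generic X hX
  obtain ⟨p, hp, -, hq⟩ := hX.2.1 η
  refine (AlgSpD.finite_preimage_of_qc_point p hq a ha).subset fun ξ hξ => ?_
  obtain ⟨v, hv, hve⟩ := AlgSpD.exists_lift_of_specializes X hX.2.1 a ha ξ η (hη _)
  show AlgSp.Points.ofPt a ξ = AlgSp.Points.mk p
  rw [hp, ← hξ v hv, hve]

/-- Finitely many maximal points and unique maximal generalisations give an irreducible open around a point. -/
theorem exists_irreducible_nhd {U : Scheme.{u}} (hfin : {ξ : ↥U | ∀ z, z ⤳ ξ → z = ξ}.Finite)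
    (hu : ∀ u : ↥U, IsDomain ↥(U.presheaf.stalk u)) (u : ↥U) :
    ∃ O : U.Opens, u ∈ O ∧ IsPreirreducible (O : Set ↥U) := by
  have huniq : ∀ (v ξ ξ' : ↥U), (∀ z, z ⤳ ξ → z = ξ) → (∀ z, z ⤳ ξ' → z = ξ') → ξ ⤳ v → ξ' ⤳ v → ξ = ξ' := by
    intro v ξ ξ' h h' hs hs'
    obtain ⟨p, rfl⟩ : ξ ∈ Set.range (U.fromSpecStalk v) := by rw [Scheme.range_fromSpecStalk]; exact hs
    obtain ⟨p', rfl⟩ : ξ' ∈ Set.range (U.fromSpecStalk v) := by rw [Scheme.range_fromSpecStalk]; exact hs'
    have := hu v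
    have e : ∀ q : Spec (U.presheaf.stalk v),
        U.fromSpecStalk v ⟨⊥, Ideal.isPrime_bot⟩ ⤳ U.fromSpecStalk v q := fun q =>
      ((PrimeSpectrum.le_iff_specializes _ _).1 (bot_le : (⊥ : Ideal _) ≤ q.asIdeal)).map
        (U.fromSpecStalk v).continuous
    rw [← h _ (e p), ← h' _ (e p')]
  obtain ⟨ξ, hξu, hξ⟩ := IdealSh.GenericPts.exists_maximal_generalization u
  let C : Set ↥U := ⋃ z ∈ {z : ↥U | ∀ w, w ⤳ z → w = z} \ {ξ}, closure {z}
  have hC : IsClosed C := hfin.sdiff.isClosed_biUnion fun z _ => isClosed_closure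
  refine ⟨⟨Cᶜ, hC.isOpen_compl⟩, ?_, ?_⟩
  · intro hmem
    obtain ⟨z, ⟨hz, hzξ⟩, hzu⟩ := Set.mem_iUnion₂.1 hmem
    exact hzξ (huniq u z ξ hz hξ (specializes_iff_mem_closure.2 hzu) hξu)
  · have key : ∀ v ∈ Cᶜ, ξ ⤳ v := by
      intro v hv
      obtain ⟨z, hzv, hz⟩ := IdealSh.GenericPts.exists_maximal_generalization v
      by_contra hne
      refine hv (Set.mem_iUnion₂.2 ⟨z, ⟨hz, fun e => hne ?_⟩, specializes_iff_mem_closure.1 hzv⟩)
      rwa [← Set.mem_singleton_iff.1 e]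
    intro O₁ O₂ h₁ h₂ ⟨v₁, hv₁, hv₁'⟩ ⟨v₂, hv₂, hv₂'⟩
    refine ⟨ξ, ?_, (key v₁ hv₁).mem_open h₁ hv₁', (key v₂ hv₂).mem_open h₂ hv₂'⟩
    exact (key v₁ hv₁).mem_open hC.isOpen_compl hv₁

theorem exists_integral_affine_chart (hX : AlgSp.IsIntegralSp X.obj)
    (hn : AlgSp.EtaleLocally (fun U => ∀ u : ↥U, IsDomain ↥(U.presheaf.stalk u) ∧
      IsIntegrallyClosed ↥(U.presheaf.stalk u)) X.obj) (x : AlgSp.Points X.obj) :
    ∃ (U : Over S) (a : (AlgSp.yon S).obj U ⟶ X.obj), AlgSp.RepWith @Etale a ∧ IsAffine U.left ∧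
      IsIntegral U.left ∧ IsIntegrallyClosed ↥Γ(U.left, ⊤) ∧ x ∈ Set.range (AlgSp.Points.ofPt a) := by
  obtain ⟨U, a, u, hU, ha, rfl⟩ := AlgSpD.exists_affine_chart X x
  obtain ⟨O, huO, hO⟩ := exists_irreducible_nhd (finite_maximal X hX a ha)
    (fun v => (isNormalScheme_chart X hn a ha v).1) u
  obtain ⟨W, hW, huW, hWO⟩ := exists_isAffineOpen_mem_and_subset huO
  let W' : Over S := Over.mk (W.ι ≫ U.hom)
  let a' : (AlgSp.yon S).obj W' ⟶ X.obj := (AlgSp.yon S).map (Over.homMk W.ι rfl) ≫ a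
  have ha' : AlgSp.RepWith @Etale a' := AlgSpD.repWith_etale_restrict a ha W
  have : IsAffine W'.left := hW
  have : IsReduced W'.left := Groth.Agent.AlgSp.SchImageRep.isReduced_chart X.property hX.1 a' ha'
  have : IrreducibleSpace ↥W'.left := by
    have h : IsIrreducible (W : Set ↥U.left) := ⟨⟨u, huW⟩, hO.open_subset W.2 hWO⟩
    exact (isIrreducible_iff_irreducibleSpace).1 h
  have : IsIntegral W'.left := isIntegral_of_irreducibleSpace_of_isReduced _
  refine ⟨W', a', ha', inferInstance, inferInstance, ?_, ⟨u, huW⟩, AlgSpD.ofPt_restrict a W _⟩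
  have h9 := (S9821.result W'.left).1 (isNormalScheme_chart X hn a' ha')
  refine @h9 (⊤ : W'.left.Opens) ?_ (isAffineOpen_top _)
  exact ⟨⟨(⟨u, huW⟩ : ↥W), trivial⟩⟩

end Groth.Agent.AlgSpCov.IntegralSp
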