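import Groth.Agent.AlgSpCov.IntegralSp.Chart
import Groth.Agent.AlgSpCov.CodimQf.Space
import Groth.Agent.S10337
import Groth.Agent.S10394
import Groth.Agent.S10399
import Groth.Agent.S10400
import Groth.Agent.S2081
import Groth.Agent.AlgSpB.OpenGlue

/-!
# Generic points of dominant morphisms of integral algebraic spaces

* `qf_generic_iff`, `trdeg_generic_iff`: quasi-finite at the generic point iff it is alone over the generic point.
* `exists_affine_finite_of_unique`: then the morphism is finite between nonempty affine opens.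
-/

set_option autoImplicit false
set_option backward.isDefEq.respectTransparency false

universe u

open CategoryTheory CategoryTheory.Limits AlgebraicGeometry Topology TopologicalSpace

namespace Groth.Agent.AlgSpCov.IntegralSp

open Groth.Agent
open _root_.AlgSp

variable {S : Scheme.{u}} {X Y : AlgSp.Space S}

/-- A nonempty open of a decent space contains the image of an affine open. -/
theorem exists_affine_open_in (hX : AlgSp.IsDecent X.obj) {Ω : Set (AlgSp.Points X.obj)} (hΩ : IsOpen Ω)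
    (hne : Ω.Nonempty) :
    ∃ (V : Over S) (b : (AlgSp.yon S).obj V ⟶ X.obj), IsAffine V.left ∧ Nonempty ↥V.left ∧
      AlgSp.RepWith @IsOpenImmersion b ∧ Set.range (AlgSp.Points.ofPt b) ⊆ Ω := by
  obtain ⟨X', j, hj, hrep, hd⟩ := S10337.result X hX
  obtain ⟨X0, ⟨e⟩⟩ := hrep.has_representation
  let i := AlgSp.isoOfRepresentableBy e
  have hij : AlgSp.RepWith @IsOpenImmersion (i.hom ≫ j.hom) :=
    ((AlgSp.RepWith @IsOpenImmersion).cancel_left_of_respectsIso i.hom j.hom).2 hj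
  obtain ⟨_, hzΩ, z, rfl⟩ := hd.inter_open_nonempty Ω hΩ hne
  let x0 := AlgSp.Points.toScheme X0 (AlgSp.Points.map i.inv z)
  have hx0 : AlgSp.Points.ofPt (i.hom ≫ j.hom) x0 = AlgSp.Points.map j.hom z := by
    rw [AlgSp.Points.ofPt_eq_map_ofScheme, AlgSp.Points.ofScheme_toScheme, ← AlgSp.Points.map_comp,
      i.inv_hom_id_assoc]
  obtain ⟨W, hW, hxW, hWΩ⟩ := exists_isAffineOpen_mem_and_subset (x := x0)
    (U := (⟨_, hΩ.preimage (AlgSp.Points.continuous_ofPt (i.hom ≫ j.hom))⟩ : X0.left.Opens))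
    (show AlgSp.Points.ofPt (i.hom ≫ j.hom) x0 ∈ Ω by rw [hx0]; exact hzΩ)
  let k : (Over.mk (W.ι ≫ X0.hom) : Over S) ⟶ X0 := Over.homMk W.ι rfl
  refine ⟨_, (AlgSp.yon S).map k ≫ i.hom ≫ j.hom, hW, ⟨⟨x0, hxW⟩⟩, ?_, ?_⟩
  · exact (AlgSp.RepWith @IsOpenImmersion).comp_mem _ _
      ((AlgSp.repWith_yon_map_iff _ _).2 (inferInstanceAs (IsOpenImmersion W.ι))) hij
  · rintro _ ⟨w, rfl⟩
    rw [AlgSpB.ofPt_map_comp]
    exact hWΩ w.2

variable (hXi : AlgSp.IsIntegralSp X.obj) (hYi : AlgSp.IsIntegralSp Y.obj) (f : X ⟶ Y)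

theorem generic_specializes {Z : AlgSp.Space S} {z : AlgSp.Points Z.obj}
    (hz : IsGenericPoint z (Set.univ : Set (AlgSp.Points Z.obj))) (w : AlgSp.Points Z.obj) : z ⤳ w :=
  hz.specializes trivial

/-- The generic point is the only point of codimension zero. -/
theorem hasAt_zero_iff {Z : AlgSp.Space S} (hZ : AlgSp.IsIntegralSp Z.obj) {z : AlgSp.Points Z.obj}
    (hz : IsGenericPoint z (Set.univ : Set (AlgSp.Points Z.obj))) (w : AlgSp.Points Z.obj) :
    AlgSp.HasAt (fun U u => ringKrullDim ↥(U.presheaf.stalk u) = 0) Z.obj w ↔ w = z := by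
  have := hZ.2.2
  have := S10338.result Z hZ.2.1
  rw [← S10394.result Z hZ.2.1, irreducibleComponents_eq_singleton]
  constructor
  · rintro ⟨T, rfl, hw⟩
    exact hw.eq hz
  · rintro rfl
    exact ⟨_, rfl, hz⟩

include hXi in
theorem generic_mem {z : AlgSp.Points X.obj} (hz : IsGenericPoint z (Set.univ : Set (AlgSp.Points X.obj)))
    {Ω : Set (AlgSp.Points X.obj)} (hΩ : IsOpen Ω) (hne : Ω.Nonempty) : z ∈ Ω := by
  have := hXi.2.2
  obtain ⟨w, hw⟩ := hne
  exact (generic_specializes hz w).mem_open hΩ hw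

include hYi in
theorem map_generic (hd : AlgSp.IsDominantMor f.hom) {x : AlgSp.Points X.obj}
    (hx : IsGenericPoint x (Set.univ : Set (AlgSp.Points X.obj))) {y : AlgSp.Points Y.obj}
    (hy : IsGenericPoint y (Set.univ : Set (AlgSp.Points Y.obj))) : AlgSp.Points.map f.hom x = y := by
  have := S10338.result Y hYi.2.1
  refine (isGenericPoint_def.2 ?_ : IsGenericPoint (AlgSp.Points.map f.hom x) Set.univ).eq hy
  refine Set.eq_univ_of_univ_subset (hd.closure_range ▸ closure_minimal ?_ isClosed_closure)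
  rintro _ ⟨w, rfl⟩
  exact specializes_iff_mem_closure.1 ((generic_specializes hx w).map (AlgSp.Points.continuous_map f.hom))

variable {x : AlgSp.Points X.obj} (hx : IsGenericPoint x (Set.univ : Set (AlgSp.Points X.obj)))
  {y : AlgSp.Points Y.obj} (hy : IsGenericPoint y (Set.univ : Set (AlgSp.Points Y.obj)))
  (hft : AlgSp.LocP @LocallyOfFiniteType f.hom) (hd : AlgSp.IsDominantMor f.hom)

include hXi hYi hx hy hft hd in
theorem qf_generic_iff : AlgSp.HasAtMor AlgSpD.LqfNear f.hom x ↔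
    ∀ x' : AlgSp.Points X.obj, AlgSp.Points.map f.hom x' = y → x' = x := by
  obtain ⟨h1, h2⟩ := S10399.result f hft y ((hasAt_zero_iff hYi hy y).2 rfl)
  refine ⟨fun h x' hx' => ?_, fun h => h1.1 (fun x' hx' => (hasAt_zero_iff hXi hx x').2 (h x' hx')) x
    (map_generic hYi f hd hx hy)⟩
  refine (hasAt_zero_iff hXi hx x').1 (h2 (fun z _ hz => ?_) x' hx')
  rw [(hasAt_zero_iff hXi hx z).1 hz]
  exact h

include hXi hx hft in
theorem trdeg_generic_iff :
    AlgSp.HasAtMor (fun _ _ h u => Dual3.resTrdeg h u = 0) f.hom x ↔ AlgSp.HasAtMor AlgSpD.LqfNear f.hom x := by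
  refine ⟨?_, CodimQf.resTrdeg_of_lqfNear f hft x⟩
  rintro ⟨U, V, a, b, g, u, ha, hb, w, hux, hu⟩
  haveI : LocallyOfFiniteType g.left := hft a b g ha hb w
  refine ⟨U, V, a, b, g, u, ha, hb, w, hux, ?_⟩
  rw [AlgSpD.lqfNear_iff, ← AlgSpD.quasiFiniteAt_iff_fibreDimAt_eq_zero]
  have hmax := (FlatMor.GenericPts.closure_mem_irreducibleComponents_iff u).1
    ((Groth.Agent.AlgSp.codim0_iff_chart ha u).1 ((hasAt_zero_iff hXi hx _).2 hux))
  refine (EtStruct.quasiFiniteAt_iff_isClosed_and_forall g.left u).2 ⟨?_, fun z hz => ?_⟩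
  · refine EtStruct.isClosed_asFiber_of_isAlgebraic g.left u ?_
    letI := (g.left.residueFieldMap u).hom.toAlgebra
    exact _root_.trdeg_eq_zero_iff.1 hu
  · apply (g.left.fiberι (g.left u)).isEmbedding.injective
    have hzu : g.left.fiberι (g.left u) z ⤳ u := by
      have := hz.map (g.left.fiberι (g.left u)).continuous
      rwa [g.left.fiberι_asFiber] at this
    rw [g.left.fiberι_asFiber]
    exact ((hmax _ hzu).antisymm hzu).eq.symm

include hXi hYi hx hy hft hd in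
theorem exists_affine_finite_of_unique
    (h : ∀ x' : AlgSp.Points X.obj, AlgSp.Points.map f.hom x' = y → x' = x) :
    ∃ (U V : Over S) (a : (AlgSp.yon S).obj U ⟶ X.obj) (b : (AlgSp.yon S).obj V ⟶ Y.obj) (g : U ⟶ V),
      IsAffine U.left ∧ IsAffine V.left ∧ Nonempty ↥U.left ∧
        AlgSp.RepWith @IsOpenImmersion a ∧ AlgSp.RepWith @IsOpenImmersion b ∧
          a ≫ f.hom = (AlgSp.yon S).map g ≫ b ∧ IsFinite g.left := by
  obtain ⟨V, b, hV, hVne, hb, -⟩ := exists_affine_open_in hYi.2.1 isOpen_univ ⟨y, trivial⟩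
  have hbe : AlgSp.RepWith @Etale b :=
    Groth.Agent.AlgSp.repWith_mono (fun g (hg : IsOpenImmersion g) => (inferInstance : Etale g)) hb
  have hbr : IsOpen (Set.range (AlgSp.Points.ofPt b)) := (AlgSpB.isOpenMap_ofPt hbe).isOpen_range
  have hyb : y ∈ Set.range (AlgSp.Points.ofPt b) := generic_mem hYi hy hbr ⟨_, Set.mem_range_self (Classical.arbitrary _)⟩
  obtain ⟨U, a, hU, hUne, ha, har⟩ := exists_affine_open_in hXi.2.1
    (hbr.preimage (AlgSp.Points.continuous_map f.hom)) ⟨x, by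
      show AlgSp.Points.map f.hom x ∈ Set.range (AlgSp.Points.ofPt b); rw [map_generic hYi f hd hx hy]; exact hyb⟩
  have hae : AlgSp.RepWith @Etale a :=
    Groth.Agent.AlgSp.repWith_mono (fun g (hg : IsOpenImmersion g) => (inferInstance : Etale g)) ha
  obtain ⟨g, w⟩ : ∃ g : U ⟶ V, a ≫ f.hom = (AlgSp.yon S).map g ≫ b := by
    obtain ⟨c, hc⟩ := AlgSpB.exists_lift_yon_of_isOpenImmersion hb (a ≫ f.hom) (by
      rintro _ ⟨t, rfl⟩
      obtain ⟨s, hs⟩ : AlgSp.Points.map f.hom (AlgSp.Points.ofPt a t) ∈ Set.range (AlgSp.Points.ofPt b) :=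
        har ⟨t, rfl⟩
      rw [AlgSp.Points.map_ofPt, AlgSp.Points.ofPt_eq_map_ofScheme b] at hs
      exact ⟨_, hs⟩)
    obtain ⟨g, rfl⟩ := (AlgSp.yon S).map_surjective c
    exact ⟨g, hc.symm⟩
  haveI : IsReduced U.left := Groth.Agent.AlgSp.SchImageRep.isReduced_chart X.property hXi.1 a hae
  haveI : IsReduced V.left := Groth.Agent.AlgSp.SchImageRep.isReduced_chart Y.property hYi.1 b hbe
  haveI : LocallyOfFiniteType g.left := hft a b g hae hbe w
  haveI : QuasiCompact g.left := (quasiCompact_iff_compactSpace g.left).2 inferInstance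
  haveI : IsAffineHom g.left := isAffineHom_of_isAffine _
  have ea : ∀ u, closure {u} ∈ irreducibleComponents (U.left : Type u) ↔ AlgSp.Points.ofPt a u = x := fun u => by
    rw [← Groth.Agent.AlgSp.codim0_iff_chart hae u, hasAt_zero_iff hXi hx]
  have eb : ∀ v, closure {v} ∈ irreducibleComponents (V.left : Type u) ↔ AlgSp.Points.ofPt b v = y := fun v => by
    rw [← Groth.Agent.AlgSp.codim0_iff_chart hbe v, hasAt_zero_iff hYi hy]
  have hfin : ∀ {Z : AlgSp.Space S} {T : Over S} (c : (AlgSp.yon S).obj T ⟶ Z.obj), AlgSp.RepWith @IsOpenImmersion c →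
      ∀ z, {t | AlgSp.Points.ofPt c t = z}.Finite := fun c hc z =>
    Set.Subsingleton.finite fun t ht t' ht' => have := AlgSpB.mono_of_isOpenImmersion hc; AlgSpB.injective_ofPt_of_mono c (ht.trans ht'.symm)
  obtain ⟨O, hO, hOfin⟩ := S2081.result g.left
    (Groth.Agent.AlgSp.finite_irreducibleComponents_of_generic ((hfin a ha x).subset fun u hu => (ea u).1 hu))
    (Groth.Agent.AlgSp.finite_irreducibleComponents_of_generic ((hfin b hb y).subset fun v hv => (eb v).1 hv))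
    (fun u => by
      have e : AlgSp.Points.ofPt b (g.left u) = AlgSp.Points.map f.hom (AlgSp.Points.ofPt a u) := by
        rw [AlgSp.Points.map_ofPt, w, AlgSpB.ofPt_map_comp]
      rw [ea, eb, e]
      exact ⟨fun h' => by rw [h']; exact map_generic hYi f hd hx hy, h _⟩)
  obtain ⟨v, hvy⟩ := hyb
  have hxa : x ∈ Set.range (AlgSp.Points.ofPt a) :=
    generic_mem hXi hx (AlgSpB.isOpenMap_ofPt hae).isOpen_range ⟨_, Set.mem_range_self (Classical.arbitrary _)⟩
  obtain ⟨u, hux⟩ := hxa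
  have hvO : v ∈ O := Groth.Agent.AlgSp.generic_mem_of_dense O hO ((eb v).2 hvy)
    (Groth.Agent.AlgSp.finite_irreducibleComponents_of_generic ((hfin b hb y).subset fun v hv => (eb v).1 hv))
  have := AlgSpB.mono_of_isOpenImmersion hb
  have hgu : g.left u = v := AlgSpB.injective_ofPt_of_mono b (by
    rw [hvy, ← map_generic hYi f hd hx hy, ← hux, AlgSp.Points.map_ofPt, w, AlgSpB.ofPt_map_comp])
  obtain ⟨O', hO', hvO', hle⟩ := exists_isAffineOpen_mem_and_subset hvO
  let U' : Over S := Over.mk ((g.left ⁻¹ᵁ O').ι ≫ U.hom)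
  let V' : Over S := Over.mk (O'.ι ≫ V.hom)
  let iU : U' ⟶ U := Over.homMk (g.left ⁻¹ᵁ O').ι rfl
  let iV : V' ⟶ V := Over.homMk O'.ι rfl
  let g' : U' ⟶ V' := Over.homMk (g.left ∣_ O') (by
    show (g.left ∣_ O') ≫ O'.ι ≫ V.hom = (g.left ⁻¹ᵁ O').ι ≫ U.hom
    rw [morphismRestrict_ι_assoc, Over.w g])
  refine ⟨U', V', (AlgSp.yon S).map iU ≫ a, (AlgSp.yon S).map iV ≫ b, g', hO'.preimage g.left, hO',
    ⟨⟨u, show g.left u ∈ O' by rw [hgu]; exact hvO'⟩⟩,
    (AlgSp.RepWith @IsOpenImmersion).comp_mem _ _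
      ((AlgSp.repWith_yon_map_iff _ _).2 (inferInstanceAs (IsOpenImmersion (g.left ⁻¹ᵁ O').ι))) ha,
    (AlgSp.RepWith @IsOpenImmersion).comp_mem _ _
      ((AlgSp.repWith_yon_map_iff _ _).2 (inferInstanceAs (IsOpenImmersion O'.ι))) hb, ?_, ?_⟩
  · rw [Category.assoc, w, ← Category.assoc, ← Category.assoc, ← Functor.map_comp, ← Functor.map_comp]
    congr 2
    ext
    exact (morphismRestrict_ι g.left O').symm
  · exact Groth.Agent.AlgSp.isFinite_of_restrict_le g.left O' (g.left ∣_ O') (g.left ⁻¹ᵁ O').ι O hle hOfin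
      (isPullback_morphismRestrict g.left O').flip

include hXi hx hft in
theorem lqfNear_of_affine_finite {U V : Over S} (a : (AlgSp.yon S).obj U ⟶ X.obj)
    (b : (AlgSp.yon S).obj V ⟶ Y.obj) (g : U ⟶ V) (hU : Nonempty ↥U.left)
    (ha : AlgSp.RepWith @IsOpenImmersion a) (hb : AlgSp.RepWith @IsOpenImmersion b)
    (w : a ≫ f.hom = (AlgSp.yon S).map g ≫ b) (hg : IsFinite g.left) :
    AlgSp.HasAtMor AlgSpD.LqfNear f.hom x := by
  have hae : AlgSp.RepWith @Etale a :=
    Groth.Agent.AlgSp.repWith_mono (fun g (hg : IsOpenImmersion g) => (inferInstance : Etale g)) ha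
  have hbe : AlgSp.RepWith @Etale b :=
    Groth.Agent.AlgSp.repWith_mono (fun g (hg : IsOpenImmersion g) => (inferInstance : Etale g)) hb
  obtain ⟨u, hu⟩ := generic_mem hXi hx (AlgSpB.isOpenMap_ofPt hae).isOpen_range
    ⟨_, Set.mem_range_self (Classical.arbitrary ↥U.left)⟩
  have := hft a b g hae hbe w
  exact ⟨U, V, a, b, g, u, hae, hbe, w, hu, ⊤, trivial, inferInstance, inferInstance⟩

omit hXi hYi in
/-- An open with finite preimage contains an affine one. -/
theorem exists_affine_finite_preimage (hYd : AlgSp.IsDecent Y.obj) {V P : AlgSp.Space S} (j : V ⟶ Y)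
    (hj : AlgSp.RepWith @IsOpenImmersion j.hom) (hne : (Set.range (AlgSp.Points.map j.hom)).Nonempty)
    (fst : P ⟶ V) (snd : P ⟶ X) (sq : IsPullback fst.hom snd.hom j.hom f.hom) (hfin : AlgSp.IsFiniteMor fst.hom) :
    ∃ (V : Over S) (b : (AlgSp.yon S).obj V ⟶ Y.obj) (U : Over S) (g : U ⟶ V) (a : (AlgSp.yon S).obj U ⟶ X.obj),
      IsAffine V.left ∧ Nonempty ↥V.left ∧ AlgSp.RepWith @IsOpenImmersion b ∧
        IsPullback a ((AlgSp.yon S).map g) f.hom b ∧ IsAffine U.left ∧ IsFinite g.left := by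
  obtain ⟨V0, b, hV0, hne0, hb, hbr⟩ := exists_affine_open_in hYd
    (AlgSpB.isOpen_range_of_isOpenImmersion hj) hne
  obtain ⟨c, hc⟩ := AlgSpB.exists_lift_yon_of_isOpenImmersion hj b hbr
  obtain ⟨W, i, fst', sq', hW, hi⟩ := hfin hV0 c
  exact ⟨V0, b, W, i, fst' ≫ snd.hom, hV0, hne0, hb, hc ▸ sq'.paste_horiz sq.flip, hW, hi⟩

include hXi hYi hx hy hft hd in
theorem lqfNear_of_finite_preimage {V : Over S} (b : (AlgSp.yon S).obj V ⟶ Y.obj) {U : Over S} (g : U ⟶ V)
    (a : (AlgSp.yon S).obj U ⟶ X.obj) (hV : Nonempty ↥V.left) (hb : AlgSp.RepWith @IsOpenImmersion b)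
    (sq : IsPullback a ((AlgSp.yon S).map g) f.hom b) (hg : IsFinite g.left) :
    AlgSp.HasAtMor AlgSpD.LqfNear f.hom x := by
  have hbe : AlgSp.RepWith @Etale b :=
    Groth.Agent.AlgSp.repWith_mono (fun g (hg : IsOpenImmersion g) => (inferInstance : Etale g)) hb
  obtain ⟨v, hv⟩ := generic_mem hYi hy (AlgSpB.isOpenMap_ofPt hbe).isOpen_range
    ⟨_, Set.mem_range_self (Classical.arbitrary ↥V.left)⟩
  obtain ⟨q, -, -⟩ := AlgSpB.exists_of_isPullback sq x (AlgSp.Points.ofScheme V v)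
    (by rw [← AlgSp.Points.ofPt_eq_map_ofScheme, hv, map_generic hYi f hd hx hy])
  exact lqfNear_of_affine_finite hXi f hx hft a b g ⟨AlgSp.Points.toScheme U q⟩
    (MorphismProperty.of_isPullback sq.flip hb) hb sq.w hg

include hXi hYi hx hy hft hd in
/-- Finite over a dense open. -/
theorem exists_finite_open_of_unique (hsq : AlgSp.IsQuasiCompactMor f.hom ∨ AlgSp.IsSeparatedMor f.hom)
    (h : ∀ x' : AlgSp.Points X.obj, AlgSp.Points.map f.hom x' = y → x' = x) :
    ∃ (V P : AlgSp.Space S) (j : V ⟶ Y) (fst : P ⟶ V) (snd : P ⟶ X), AlgSp.RepWith @IsOpenImmersion j.hom ∧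
      (Set.range (AlgSp.Points.map j.hom)).Nonempty ∧ IsPullback fst.hom snd.hom j.hom f.hom ∧
      AlgSp.IsFiniteMor fst.hom := by
  obtain ⟨V, P, j, fst, snd, hj, hdense, sq, hfin⟩ := S10400.result f hft hYi.2.1
    ((Set.finite_singleton x).subset fun z hz => (hasAt_zero_iff hXi hx z).1 hz)
    ((Set.finite_singleton y).subset fun z hz => (hasAt_zero_iff hYi hy z).1 hz)
    (fun z => by
      rw [hasAt_zero_iff hXi hx, hasAt_zero_iff hYi hy]
      exact ⟨fun e => by rw [e]; exact map_generic hYi f hd hx hy, h z⟩)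
    hsq
  have := hYi.2.2
  exact ⟨V, P, j, fst, snd, hj, hdense.nonempty, sq, hfin⟩

omit hXi hYi in
theorem isFiniteMor_of_iso {A B V : AlgSp.Sp S} (e : A ≅ B) {p : A ⟶ V} {q : B ⟶ V} (h : e.hom ≫ q = p)
    (hp : AlgSp.IsFiniteMor p) : AlgSp.IsFiniteMor q := by
  intro Z hZ g
  obtain ⟨W, i, fst, sq, hW, hi⟩ := hp hZ g
  have sq2 : IsPullback e.hom p q (𝟙 V) := IsPullback.of_horiz_isIso ⟨by rw [h, Category.comp_id]⟩
  exact ⟨W, i, fst ≫ e.hom, by simpa using sq.paste_horiz sq2, hW, hi⟩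

end Groth.Agent.AlgSpCov.IntegralSp
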