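import Groth.Agent.AlgSpCov.IntegralSp.Chart
import Groth.Agent.AlgSpD.HasAt
import Groth.Prelude.Def_AlgSpOX

/-!
# Global functions of integral algebraic spaces

* `isDomain_gsect`: global functions of an integral space form a domain.
* `isIntegrallyClosed_gsect`: they are integrally closed for a normal integral space.
-/

set_option autoImplicit false
set_option backward.isDefEq.respectTransparency false

universe u

open CategoryTheory CategoryTheory.Limits AlgebraicGeometry Topology TopologicalSpace Opposite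

namespace Groth.Agent.AlgSpCov.IntegralSp

open Groth.Agent
open _root_.AlgSp

variable {S : Scheme.{u}} {X : AlgSp.Space S}

/-- A global function on an object of the small etale site, as a ring map. -/
noncomputable def valHom (E : AlgSp.EtOver X.obj) :
    ↥(AlgSp.gsectEt (AlgSp.OEt X.obj)) →+* Γ(E.obj.left.left, ⊤) :=
  RingHom.comp (ULift.ringEquiv (R := Γ(E.obj.left.left, ⊤))).toRingHom
    (limit.π (AlgSp.OEt X.obj).obj (op E)).hom

theorem valHom_map {E E' : AlgSp.EtOver X.obj} (g : E ⟶ E') (s : ↥(AlgSp.gsectEt (AlgSp.OEt X.obj))) :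
    g.hom.left.left.appTop (valHom E' s) = valHom E s := by
  have h := ConcreteCategory.congr_hom (limit.w (AlgSp.OEt X.obj).obj g.op) s
  exact congrArg ULift.down h

theorem gsect_ext (s t : ↥(AlgSp.gsectEt (AlgSp.OEt X.obj))) (h : ∀ E, valHom E s = valHom E t) : s = t :=
  Concrete.limit_ext _ _ _ fun j => ULift.down_injective (h j.unop)

theorem exists_gsect (c : ∀ E : AlgSp.EtOver X.obj, Γ(E.obj.left.left, ⊤))
    (hc : ∀ ⦃E E' : AlgSp.EtOver X.obj⦄ (g : E ⟶ E'), g.hom.left.left.appTop (c E') = c E) :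
    ∃ s : ↥(AlgSp.gsectEt (AlgSp.OEt X.obj)), ∀ E, valHom E s = c E := by
  let F := (AlgSp.OEt X.obj).obj
  let t := isLimitOfPreserves (forget CommRingCat.{u+1}) (limit.isLimit F)
  let x : (F ⋙ forget CommRingCat.{u+1}).sections :=
    ⟨fun j => ULift.up (c j.unop), fun {j j'} g => congrArg ULift.up (hc g.unop)⟩
  exact ⟨(Types.isLimitEquivSections t).symm x,
    fun E => congrArg ULift.down (Types.isLimitEquivSections_symm_apply t x (op E))⟩

/-- Where a global function is invertible. -/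
def nonVanishing (s : ↥(AlgSp.gsectEt (AlgSp.OEt X.obj))) : Set (AlgSp.Points X.obj) :=
  ⋃ E : AlgSp.EtOver X.obj, AlgSp.Points.ofPt E.obj.hom '' (E.obj.left.left.basicOpen (valHom E s) : Set _)

theorem isOpen_nonVanishing (s : ↥(AlgSp.gsectEt (AlgSp.OEt X.obj))) : IsOpen (nonVanishing s) :=
  isOpen_iUnion fun E => AlgSpB.isOpenMap_ofPt E.property _ (E.obj.left.left.basicOpen (valHom E s)).2

theorem preimage_nonVanishing (s : ↥(AlgSp.gsectEt (AlgSp.OEt X.obj))) (E : AlgSp.EtOver X.obj)
    (u : ↥E.obj.left.left) :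
    AlgSp.Points.ofPt E.obj.hom u ∈ nonVanishing s ↔ u ∈ E.obj.left.left.basicOpen (valHom E s) := by
  refine ⟨fun h => ?_, fun h => Set.mem_iUnion.2 ⟨E, u, h, rfl⟩⟩
  obtain ⟨E', v, hv, e⟩ := Set.mem_iUnion.1 h
  obtain ⟨W, p, q, w, sq, hp, hq, hwp, hwq⟩ := AlgSpD.exists_common_chart E'.property E.property e
  let R : AlgSp.EtOver X.obj := AlgSp.EtOver.mk ((AlgSp.yon S).map p ≫ E'.obj.hom)
    (AlgSpB.repWith_etale_map_comp p E'.property)
  let gp : R ⟶ E' := AlgSp.EtOver.homMk p rfl
  let gq : R ⟶ E := AlgSp.EtOver.homMk q sq.w.symm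
  have e1 : valHom R s = p.left.appTop (valHom E' s) := (valHom_map gp s).symm
  have e2 : valHom R s = q.left.appTop (valHom E s) := (valHom_map gq s).symm
  have h1 : w ∈ p.left ⁻¹ᵁ E'.obj.left.left.basicOpen (valHom E' s) := by
    show p.left w ∈ E'.obj.left.left.basicOpen (valHom E' s)
    rwa [hwp]
  have h2 : q.left ⁻¹ᵁ E.obj.left.left.basicOpen (valHom E s) =
      p.left ⁻¹ᵁ E'.obj.left.left.basicOpen (valHom E' s) := by
    rw [Scheme.preimage_basicOpen_top, Scheme.preimage_basicOpen_top]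
    exact congrArg _ (e2.symm.trans e1)
  rw [← h2] at h1
  rw [← hwq]
  exact h1

variable (hX : AlgSp.IsIntegralSp X.obj)
include hX

theorem isReduced_etOver (E : AlgSp.EtOver X.obj) : IsReduced E.obj.left.left :=
  Groth.Agent.AlgSp.SchImageRep.isReduced_chart X.property hX.1 E.obj.hom E.property

theorem nonVanishing_nonempty {s : ↥(AlgSp.gsectEt (AlgSp.OEt X.obj))} (hs : s ≠ 0) :
    (nonVanishing s).Nonempty := by
  by_contra h
  refine hs (gsect_ext s 0 fun E => ?_)
  have := isReduced_etOver hX E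
  rw [map_zero, ← AlgebraicGeometry.basicOpen_eq_bot_iff]
  exact TopologicalSpace.Opens.ext (Set.eq_empty_of_forall_notMem fun u hu =>
    h ⟨AlgSp.Points.ofPt E.obj.hom u, (preimage_nonVanishing s E u).2 hu⟩)

theorem isDomain_gsect : IsDomain ↥(AlgSp.gsectEt (AlgSp.OEt X.obj)) := by
  have := hX.2.2
  obtain ⟨U, a, ha, has⟩ := X.property.atlas
  obtain ⟨u, -⟩ := AlgSpB.surjective_ofPt has (Classical.arbitrary (AlgSp.Points X.obj))
  let E : AlgSp.EtOver X.obj := AlgSp.EtOver.mk a ha
  have : Nontrivial ↥(AlgSp.gsectEt (AlgSp.OEt X.obj)) := by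
    refine ⟨0, 1, fun h => ?_⟩
    have h0 := congrArg (U.left.presheaf.germ ⊤ u trivial) (congrArg (valHom E) h)
    rw [map_zero, map_zero, map_one, map_one] at h0
    exact zero_ne_one h0
  have : NoZeroDivisors ↥(AlgSp.gsectEt (AlgSp.OEt X.obj)) := ⟨fun {s t} hst => by
    by_contra h
    push Not at h
    obtain ⟨x, hxs, hxt⟩ := nonempty_preirreducible_inter (isOpen_nonVanishing s) (isOpen_nonVanishing t)
      (nonVanishing_nonempty hX h.1) (nonVanishing_nonempty hX h.2)
    obtain ⟨V, b, v, hb, rfl⟩ := AlgSpD.exists_chart X x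
    replace hxs := (preimage_nonVanishing s (AlgSp.EtOver.mk b hb) v).1 hxs
    replace hxt := (preimage_nonVanishing t (AlgSp.EtOver.mk b hb) v).1 hxt
    have h3 : v ∈ V.left.basicOpen (valHom (AlgSp.EtOver.mk b hb) (s * t)) := by
      rw [map_mul, Scheme.basicOpen_mul]
      exact ⟨hxs, hxt⟩
    rw [hst, map_zero, Scheme.basicOpen_zero] at h3
    exact h3⟩
  exact NoZeroDivisors.to_isDomain _

/-- A nonzero global function has nonzero germ at every point of every chart. -/
theorem germ_ne_zero {s : ↥(AlgSp.gsectEt (AlgSp.OEt X.obj))} (hs : s ≠ 0) (E : AlgSp.EtOver X.obj)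
    (u : ↥E.obj.left.left) : E.obj.left.left.presheaf.germ ⊤ u trivial (valHom E s) ≠ 0 := by
  have := hX.2.2
  intro h
  obtain ⟨W, hu, i, i', e⟩ := E.obj.left.left.presheaf.germ_eq (U := (⊤ : E.obj.left.left.Opens)) (V := (⊤ : E.obj.left.left.Opens)) u trivial trivial (valHom E s) (0 : Γ(E.obj.left.left, ⊤))
    (by rw [map_zero]; exact h)
  rw [map_zero] at e
  obtain ⟨_, hx, ⟨v, hv, rfl⟩⟩ := nonempty_preirreducible_inter (isOpen_nonVanishing s)
    (AlgSpB.isOpenMap_ofPt E.property _ W.2) (nonVanishing_nonempty hX hs) ⟨_, u, hu, rfl⟩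
  rw [preimage_nonVanishing] at hx
  have h2 : v ∈ E.obj.left.left.basicOpen (E.obj.left.left.presheaf.map i.op (valHom E s)) := by
    rw [Scheme.basicOpen_res]
    exact ⟨hv, hx⟩
  rw [e, Scheme.basicOpen_zero] at h2
  exact h2

omit hX in
/-- Sections are determined by their germs. -/
theorem germ_ext {T : Scheme.{u}} {W : T.Opens} (c c' : Γ(T, W))
    (h : ∀ x hx, T.presheaf.germ W x hx c = T.presheaf.germ W x hx c') : c = c' :=
  TopCat.Presheaf.section_ext T.sheaf _ _ _ h

omit hX in
/-- Pointwise quotients of global functions glue. -/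
theorem existsUnique_quotient {T : Scheme.{u}} (a b : Γ(T, ⊤))
    (hd : ∀ t : ↥T, IsDomain ↥(T.presheaf.stalk t)) (hb : ∀ t : ↥T, T.presheaf.germ ⊤ t trivial b ≠ 0)
    (hq : ∀ t : ↥T, ∃ c, T.presheaf.germ ⊤ t trivial b * c = T.presheaf.germ ⊤ t trivial a) :
    ∃! c : Γ(T, ⊤), b * c = a := by
  have cancel : ∀ {W : T.Opens} (c c' : Γ(T, W)),
      T.presheaf.map (homOfLE (le_top : W ≤ ⊤)).op b * c = T.presheaf.map (homOfLE (le_top : W ≤ ⊤)).op b * c' →
      c = c' := by
    intro W c c' h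
    refine germ_ext _ _ fun x hx => ?_
    have := hd x
    have h1 := congrArg (T.presheaf.germ W x hx) h
    rw [map_mul, map_mul, TopCat.Presheaf.germ_res_apply] at h1
    exact mul_left_cancel₀ (hb x) h1
  have key : ∀ t : ↥T, ∃ W : T.Opens, t ∈ W ∧ ∃ c : Γ(T, W),
      T.presheaf.map (homOfLE (le_top : W ≤ ⊤)).op b * c = T.presheaf.map (homOfLE (le_top : W ≤ ⊤)).op a := by
    intro t
    obtain ⟨c, hc⟩ := hq t
    obtain ⟨W₀, hW₀, c₀, rfl⟩ := T.presheaf.exists_germ_eq c
    obtain ⟨W, hW, i, i', e⟩ := T.presheaf.germ_eq (U := W₀) (V := (⊤ : T.Opens)) t hW₀ trivial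
      (T.presheaf.map (homOfLE (le_top : W₀ ≤ ⊤)).op b * c₀) a (by rw [map_mul, TopCat.Presheaf.germ_res_apply]; exact hc)
    refine ⟨W, hW, T.presheaf.map i.op c₀, ?_⟩
    rw [map_mul, ← CommRingCat.comp_apply, ← Functor.map_comp, ← op_comp] at e
    exact e
  choose W hW c hc using key
  have res : ∀ (i : ↥T) (O : T.Opens) (g : O ⟶ W i),
      T.presheaf.map (homOfLE (le_top : O ≤ ⊤)).op b * T.presheaf.map g.op (c i) =
        T.presheaf.map (homOfLE (le_top : O ≤ ⊤)).op a := by
    intro i O g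
    have h1 := congrArg (T.presheaf.map g.op) (hc i)
    rw [map_mul, ← CommRingCat.comp_apply, ← CommRingCat.comp_apply, ← Functor.map_comp, ← op_comp] at h1
    exact h1
  obtain ⟨cc, hcc, -⟩ : ∃! cc : Γ(T, ⊤), ∀ i, T.presheaf.map (homOfLE (le_top : W i ≤ ⊤)).op cc = c i :=
    T.sheaf.existsUnique_gluing' W ⊤ (fun i => homOfLE le_top)
    (fun t _ => Opens.mem_iSup.2 ⟨t, hW t⟩) c
    (fun i j => cancel _ _ ((res i _ _).trans (res j _ _).symm))
  have hmul : b * cc = a := by
    refine germ_ext _ _ fun x _ => ?_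
    have h1 := congrArg (T.presheaf.germ (W x) x (hW x)) (hc x)
    rw [← hcc x, map_mul] at h1
    change T.presheaf.germ _ x _ (T.presheaf.map _ b) * T.presheaf.germ _ x _ (T.presheaf.map _ cc) =
      T.presheaf.germ _ x _ (T.presheaf.map _ a) at h1
    rw [TopCat.Presheaf.germ_res_apply, TopCat.Presheaf.germ_res_apply, TopCat.Presheaf.germ_res_apply,
      ← map_mul] at h1
    exact h1
  refine ⟨cc, hmul, fun c' hc' => ?_⟩
  refine germ_ext _ _ fun x _ => ?_
  have := hd x
  have h1 := congrArg (T.presheaf.germ ⊤ x trivial) (hc'.trans hmul.symm)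
  rw [map_mul, map_mul] at h1
  exact mul_left_cancel₀ (hb x) h1

omit hX in
theorem exists_quotient_of_isIntegral {A O : Type*} [CommRing A] [IsDomain A] [CommRing O] [IsDomain O]
    [IsIntegrallyClosed O] {K L : Type*} [Field K] [Algebra A K] [IsFractionRing A K] [Field L] [Algebra O L]
    [IsFractionRing O L] (φ : A →+* O) (hφ : Function.Injective φ) (a b : A) (hb : b ≠ 0)
    (h : IsIntegral A (algebraMap A K a / algebraMap A K b)) :
    ∃ c, φ b * c = φ a := by
  have hφ' : Function.Injective ((algebraMap O L).comp φ) :=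
    (IsFractionRing.injective O L).comp hφ
  obtain ⟨p, hp, hpz⟩ := h
  set ψ : K →+* L := IsFractionRing.lift hφ' with hψd
  have hψ : ψ.comp (algebraMap A K) = (algebraMap O L).comp φ :=
    RingHom.ext fun s => IsFractionRing.lift_algebraMap hφ' s
  have hint : IsIntegral O (ψ (algebraMap A K a / algebraMap A K b)) := by
    refine ⟨p.map φ, hp.map φ, ?_⟩
    rw [Polynomial.eval₂_map, ← hψ, ← Polynomial.hom_eval₂, hpz, map_zero]
  obtain ⟨c, hc⟩ := IsIntegrallyClosed.isIntegral_iff.1 hint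
  refine ⟨c, IsFractionRing.injective O L ?_⟩
  have hb' : algebraMap O L (φ b) ≠ 0 := fun h => hb (hφ' (h.trans (map_zero _).symm))
  have ha : ψ (algebraMap A K a) = algebraMap O L (φ a) := RingHom.congr_fun hψ a
  have hb2 : ψ (algebraMap A K b) = algebraMap O L (φ b) := RingHom.congr_fun hψ b
  rw [map_div₀, ha, hb2] at hc
  rw [map_mul, hc]
  exact mul_div_cancel₀ _ hb'

omit hX in
theorem isIntegrallyClosed_of_quotients {A : Type*} [CommRing A] [IsDomain A]
    (H : ∀ a b : A, b ≠ 0 →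
      IsIntegral A (algebraMap A (FractionRing A) a / algebraMap A (FractionRing A) b) → ∃ s, b * s = a) :
    IsIntegrallyClosed A := by
  rw [isIntegrallyClosed_iff (FractionRing A)]
  intro z hz
  obtain ⟨a, b, hb, rfl⟩ := IsFractionRing.div_surjective A z
  obtain ⟨s, rfl⟩ := H a b (nonZeroDivisors.ne_zero hb) hz
  refine ⟨s, ?_⟩
  rw [map_mul, mul_div_cancel_left₀]
  exact fun h => nonZeroDivisors.ne_zero hb (IsFractionRing.injective A (FractionRing A) (h.trans (map_zero _).symm))

theorem isIntegrallyClosed_gsect (hn : AlgSp.EtaleLocally (fun U => ∀ u : ↥U, IsDomain ↥(U.presheaf.stalk u) ∧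
      IsIntegrallyClosed ↥(U.presheaf.stalk u)) X.obj) :
    IsIntegrallyClosed ↥(AlgSp.gsectEt (AlgSp.OEt X.obj)) := by
  have := isDomain_gsect hX
  refine isIntegrallyClosed_of_quotients fun a b hb hint => ?_
  have key : ∀ E : AlgSp.EtOver X.obj, ∃! c : Γ(E.obj.left.left, ⊤), valHom E b * c = valHom E a := by
    intro E
    have hN := isNormalScheme_chart X hn E.obj.hom E.property
    refine existsUnique_quotient _ _ (fun t => (hN t).1) (germ_ne_zero hX hb E) fun t => ?_
    have := (hN t).1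
    have := (hN t).2
    exact exists_quotient_of_isIntegral (K := FractionRing ↥(AlgSp.gsectEt (AlgSp.OEt X.obj)))
      (L := FractionRing ↥(E.obj.left.left.presheaf.stalk t)) ((E.obj.left.left.presheaf.germ ⊤ t trivial).hom.comp (valHom E))
      ((injective_iff_map_eq_zero _).2 fun s hs => by
        by_contra h0
        exact germ_ne_zero hX h0 E t hs) a b hb hint
  choose c hc hu using key
  obtain ⟨s, hs⟩ := exists_gsect c fun E E' g => hu E _ (by
    show valHom E b * g.hom.left.left.appTop (c E') = valHom E a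
    rw [← valHom_map g, ← valHom_map g, ← map_mul, hc E'])
  exact ⟨s, gsect_ext _ _ fun E => by rw [map_mul, hs, hc]⟩

end Groth.Agent.AlgSpCov.IntegralSp
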